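import Mathlib
import Groth.Agent.H55.FFPlane4
import Groth.Agent.H55.NSing

/-!
# Euler's conductor lemma over `k[x]`, and integrality of functions regular where `x` is regular
-/

set_option autoImplicit false

namespace Groth.Agent.H27.NS

open FunFld WithZero IntermediateField Polynomial Groth.Agent.H55
open scoped IntermediateField.algebraAdjoinAdjoin

variable {k K : Type*} [Field k] [Field K] [Algebra k K]

/-- A function regular wherever `t` is regular is integral over `k[t]` (no condition on the
constants). -/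
theorem isIntegral_of_regular' (hK : G.IsFF1 k K) (t z : K)
    (hz : ∀ Q : Place k K, Q.1 t ≤ 1 → Q.1 z ≤ 1) :
    IsIntegral (Algebra.adjoin k ({t} : Set K)) z := by
  classical
  have key : z ∈ (⨅ V : {V : ValuationSubring K //
      ((Algebra.adjoin k ({t} : Set K) : Set K)) ⊆ V.toSubring}, V.1.toSubring) := by
    rw [Subring.mem_iInf]
    rintro ⟨V, hV⟩
    show z ∈ V
    by_contra hzV
    have hkV : ∀ c : k, algebraMap k K c ∈ V :=
      fun c => hV ((Algebra.adjoin k ({t} : Set K)).algebraMap_mem c)
    have htV : t ∈ V := hV (Algebra.self_mem_adjoin_singleton k t)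
    have hz0 : z ≠ 0 := by
      rintro rfl
      exact hzV V.zero_mem
    have h1 : 1 < V.valuation z := by
      rw [← not_le, ValuationSubring.valuation_le_one_iff]
      exact hzV
    have h2 : z⁻¹ ∈ V.nonunits := by
      rw [ValuationSubring.mem_nonunits_iff, map_inv₀]
      exact inv_lt_one_of_one_lt₀ h1
    obtain ⟨P, hPV, hPV'⟩ := G.exists_place_of_valuationSubring V hkV hK z⁻¹ (inv_ne_zero hz0) h2
    have h3 := hPV' _ h2
    have h4 := hz P (hPV t htV)
    rw [map_inv₀] at h3
    have h5 : 1 < P.1 z := by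
      by_contra hcon
      rw [not_lt] at hcon
      have hpos : 0 < P.1 z := zero_lt_iff.mpr ((Valuation.ne_zero_iff _).mpr hz0)
      have := (one_le_inv₀ hpos).mpr hcon
      exact absurd h3 (not_lt.mpr this)
    exact absurd h4 (not_le.mpr h5)
  rw [iInf_valuationSubring_superset] at key
  have hint : IsIntegral ↥(Subring.closure ((Algebra.adjoin k ({t} : Set K) : Set K))) z := key
  have hle : ∀ x ∈ Subring.closure ((Algebra.adjoin k ({t} : Set K) : Set K)),
      x ∈ Algebra.adjoin k ({t} : Set K) := by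
    intro x hx
    have h1 : Subring.closure ((Algebra.adjoin k ({t} : Set K) : Set K)) ≤
        (Algebra.adjoin k ({t} : Set K)).toSubring := Subring.closure_le.mpr (fun y hy => hy)
    exact h1 hx
  let ι : ↥(Subring.closure ((Algebra.adjoin k ({t} : Set K) : Set K))) →+*
      ↥(Algebra.adjoin k ({t} : Set K)) :=
    { toFun := fun x => ⟨x.1, hle x.1 x.2⟩
      map_one' := rfl
      map_mul' := fun _ _ => rfl
      map_zero' := rfl
      map_add' := fun _ _ => rfl }
  letI : Algebra ↥(Subring.closure ((Algebra.adjoin k ({t} : Set K) : Set K)))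
      ↥(Algebra.adjoin k ({t} : Set K)) := ι.toAlgebra
  haveI : IsScalarTower ↥(Subring.closure ((Algebra.adjoin k ({t} : Set K) : Set K)))
      ↥(Algebra.adjoin k ({t} : Set K)) K := IsScalarTower.of_algebraMap_eq (fun x => rfl)
  exact hint.tower_top

/-- **Euler's conductor lemma** over `k[x]`: if `K = k(x)(y)` is separable over `k(x)` and `G` is a
monic polynomial over `k[x]` with `G(y) = 0`, then `G'(y)` multiplies the integral closure of
`k[x]` into `k[x][y]`. -/
theorem deriv_mul_mem_adjoin (x y : K) (hx : Transcendental k x) [FiniteDimensional k⟮x⟯ K]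
    [Algebra.IsSeparable k⟮x⟯ K]
    (hy : Algebra.adjoin k⟮x⟯ ({y} : Set K) = ⊤)
    (G : (Algebra.adjoin k ({x} : Set K))[X]) (hGm : G.Monic) (hGy : aeval y G = 0)
    (w : K) (hw : IsIntegral (Algebra.adjoin k ({x} : Set K)) w) :
    aeval y (derivative G) * w ∈
      Algebra.adjoin (Algebra.adjoin k ({x} : Set K)) ({y} : Set K) := by
  haveI : IsIntegrallyClosed ↥(Algebra.adjoin k ({x} : Set K)) :=
    IsIntegrallyClosed.of_equiv (Polynomial.algEquivOfTranscendental k x hx).toRingEquiv
  have hyi : IsIntegral (Algebra.adjoin k ({x} : Set K)) y := ⟨G, hGm, hGy⟩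
  obtain ⟨h, hh⟩ := minpoly.isIntegrallyClosed_dvd hyi hGy
  have hmK : minpoly k⟮x⟯ y =
      (minpoly (Algebra.adjoin k ({x} : Set K)) y).map
        (algebraMap (Algebra.adjoin k ({x} : Set K)) k⟮x⟯) :=
    minpoly.isIntegrallyClosed_eq_field_fractions' k⟮x⟯ hyi
  have hEuler := traceForm_dualSubmodule_adjoin (Algebra.adjoin k ({x} : Set K)) k⟮x⟯ hy hyi
  have hc0 : aeval y (derivative (minpoly k⟮x⟯ y)) ≠ 0 :=
    (Algebra.IsSeparable.isSeparable k⟮x⟯ y).aeval_derivative_ne_zero (minpoly.aeval k⟮x⟯ y)
  have hwdual : w ∈ (Algebra.traceForm k⟮x⟯ K).dualSubmodule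
      (Subalgebra.toSubmodule (Algebra.adjoin (Algebra.adjoin k ({x} : Set K)) ({y} : Set K))) := by
    rw [LinearMap.BilinForm.mem_dualSubmodule]
    intro z hz
    rw [Algebra.traceForm_apply, Submodule.mem_one]
    have hzi : IsIntegral (Algebra.adjoin k ({x} : Set K)) z := adjoin_le_integralClosure hyi hz
    have hwz : IsIntegral (Algebra.adjoin k ({x} : Set K)) (w * z) := hw.mul hzi
    have htr : IsIntegral (Algebra.adjoin k ({x} : Set K)) (Algebra.trace k⟮x⟯ K (w * z)) :=
      Algebra.isIntegral_trace hwz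
    exact IsIntegrallyClosed.isIntegral_iff.mp htr
  rw [hEuler] at hwdual
  have hc : aeval y (derivative (minpoly k⟮x⟯ y)) * w ∈
      Algebra.adjoin (Algebra.adjoin k ({x} : Set K)) ({y} : Set K) := by
    rw [Submodule.mem_smul_pointwise_iff_exists] at hwdual
    obtain ⟨n, hn, rfl⟩ := hwdual
    rw [smul_eq_mul, ← mul_assoc, mul_inv_cancel₀ hc0, one_mul]
    exact hn
  have hc' : aeval y (derivative (minpoly k⟮x⟯ y)) =
      aeval y (derivative (minpoly (Algebra.adjoin k ({x} : Set K)) y)) := by
    rw [hmK, derivative_map, aeval_map_algebraMap]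
  have hG' : aeval y (derivative G) =
      aeval y (derivative (minpoly (Algebra.adjoin k ({x} : Set K)) y)) * aeval y h := by
    rw [hh, derivative_mul, map_add, map_mul, map_mul, minpoly.aeval, zero_mul, add_zero]
  rw [hG', mul_assoc, mul_comm (aeval y h), ← mul_assoc, ← hc']
  exact Subalgebra.mul_mem _ hc (aeval_mem_adjoin_singleton _ _)

end Groth.Agent.H27.NS
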