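import Mathlib
import Groth.Agent.H27.NS.Euler

/-!
# Generators of a constant field extension `K' = k'K` over `k'(x)`
-/

set_option autoImplicit false

namespace Groth.Agent.H27.NS

open FunFld WithZero IntermediateField Polynomial Groth.Agent.H55
open scoped IntermediateField.algebraAdjoinAdjoin

variable {k k' K K' : Type*} [Field k] [Field k'] [Field K] [Field K'] [Algebra k k']
  [Algebra k K] [Algebra K K'] [Algebra k' K'] [Algebra k K'] [IsScalarTower k k' K']
  [IsScalarTower k K K']

theorem transcendental_map [Algebra.IsAlgebraic k k'] (x : K) (hx : Transcendental k x) :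
    Transcendental k' (algebraMap K K' x) := by
  intro h
  have h1 : IsAlgebraic k (algebraMap K K' x) := h.restrictScalars k
  exact hx ((isAlgebraic_algebraMap_iff (algebraMap K K').injective).mp h1)

theorem map_const (c : k) :
    algebraMap K K' (algebraMap k K c) = algebraMap k' K' (algebraMap k k' c) := by
  rw [← IsScalarTower.algebraMap_apply k K K', ← IsScalarTower.algebraMap_apply k k' K']

/-- The image of `k(x)` lies in `k'(x)`. -/
theorem map_mem_adjoin_field (x : K) {a : K} (ha : a ∈ k⟮x⟯) :
    algebraMap K K' a ∈ k'⟮algebraMap K K' x⟯ := by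
  induction ha using IntermediateField.adjoin_induction with
  | mem z hz =>
    rw [Set.mem_singleton_iff] at hz
    rw [hz]
    exact IntermediateField.mem_adjoin_simple_self k' _
  | algebraMap c =>
    rw [map_const (k' := k') (K := K) (K' := K') c]
    exact IntermediateField.algebraMap_mem _ _
  | add a b _ _ iha ihb => rw [map_add]; exact add_mem iha ihb
  | inv a _ iha => rw [map_inv₀]; exact inv_mem iha
  | mul a b _ _ iha ihb => rw [map_mul]; exact mul_mem iha ihb

/-- The image of `k[x]` lies in `k'[x]`. -/
theorem map_mem_adjoin_alg (x : K) {a : K} (ha : a ∈ Algebra.adjoin k ({x} : Set K)) :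
    algebraMap K K' a ∈ Algebra.adjoin k' ({algebraMap K K' x} : Set K') := by
  induction ha using Algebra.adjoin_induction with
  | mem z hz =>
    rw [Set.mem_singleton_iff] at hz
    rw [hz]
    exact Algebra.self_mem_adjoin_singleton k' _
  | algebraMap c =>
    rw [map_const (k' := k') (K := K) (K' := K') c]
    exact Subalgebra.algebraMap_mem _ _
  | add a b _ _ iha ihb => rw [map_add]; exact add_mem iha ihb
  | mul a b _ _ iha ihb => rw [map_mul]; exact mul_mem iha ihb

/-- `K' = k'(x)[y]`. -/
theorem adjoin_map_eq_top
    (h : Function.Surjective (Algebra.TensorProduct.productMap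
      (IsScalarTower.toAlgHom k k' K') (IsScalarTower.toAlgHom k K K')))
    (x y : K) (hy : Algebra.adjoin k⟮x⟯ ({y} : Set K) = ⊤) :
    Algebra.adjoin k'⟮algebraMap K K' x⟯ ({algebraMap K K' y} : Set K') = ⊤ := by
  rw [eq_top_iff]
  intro z hz
  clear hz
  have hK : ∀ a : K, algebraMap K K' a ∈
      Algebra.adjoin k'⟮algebraMap K K' x⟯ ({algebraMap K K' y} : Set K') := by
    intro a
    have ha : a ∈ Algebra.adjoin k⟮x⟯ ({y} : Set K) := by rw [hy]; trivial
    induction ha using Algebra.adjoin_induction with
    | mem w hw =>
      rw [Set.mem_singleton_iff] at hw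
      rw [hw]
      exact Algebra.self_mem_adjoin_singleton _ _
    | algebraMap r =>
      have h1 : algebraMap K K' (algebraMap k⟮x⟯ K r) ∈ k'⟮algebraMap K K' x⟯ :=
        map_mem_adjoin_field x r.2
      exact Subalgebra.algebraMap_mem _ (⟨_, h1⟩ : k'⟮algebraMap K K' x⟯)
    | add a b _ _ iha ihb => rw [map_add]; exact add_mem iha ihb
    | mul a b _ _ iha ihb => rw [map_mul]; exact mul_mem iha ihb
  obtain ⟨t, rfl⟩ := h z
  induction t using TensorProduct.induction_on with
  | zero => rw [map_zero]; exact zero_mem _
  | tmul c a =>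
    rw [Algebra.TensorProduct.productMap_apply_tmul]
    refine mul_mem ?_ (hK a)
    have h1 : (IsScalarTower.toAlgHom k k' K') c =
        algebraMap k'⟮algebraMap K K' x⟯ K' (algebraMap k' k'⟮algebraMap K K' x⟯ c) := rfl
    rw [h1]
    exact Subalgebra.algebraMap_mem _ _
  | add a b iha ihb => rw [map_add]; exact add_mem iha ihb

theorem finiteDimensional_of_adjoin_eq_top {F E : Type*} [Field F] [Field E] [Algebra F E]
    (y : E) (hyi : IsIntegral F y) (htop : Algebra.adjoin F ({y} : Set E) = ⊤) :
    FiniteDimensional F E := by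
  have h1 := hyi.fg_adjoin_singleton
  rw [htop, Algebra.top_toSubmodule] at h1
  exact Module.finite_def.mpr h1

theorem isSeparable_of_adjoin_eq_top {F E : Type*} [Field F] [Field E] [Algebra F E]
    (y : E) (hys : IsSeparable F y) (htop : Algebra.adjoin F ({y} : Set E) = ⊤) :
    Algebra.IsSeparable F E := by
  rw [← separableClosure.eq_top_iff, eq_top_iff]
  intro z _
  have hz : z ∈ Algebra.adjoin F ({y} : Set E) := by rw [htop]; trivial
  have hle : Algebra.adjoin F ({y} : Set E) ≤ (separableClosure F E).toSubalgebra := by
    apply Algebra.adjoin_le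
    intro w hw
    rw [Set.mem_singleton_iff] at hw
    rw [hw]
    exact mem_separableClosure_iff.mpr hys
  exact hle hz

end Groth.Agent.H27.NS
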