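import Mathlib
import Groth.Agent.H27.NS.Gen
import Groth.Agent.H55.FFCons2

/-!
# Clearing the poles of an element of `K'` by a `P`-unit of `K`
-/

set_option autoImplicit false

namespace Groth.Agent.H27.NS

open FunFld WithZero IntermediateField Polynomial Groth.Agent.H55

variable {k K K' : Type*} [Field k] [Field K] [Field K'] [Algebra k K] [Algebra K K']
  [Algebra k K'] [IsScalarTower k K K']

/-- If `z ∈ K'` is integral at all places above `P`, where `x` is regular at `P`, then some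
`P`-unit `u ∈ K` makes `u z` regular wherever `x` is regular. -/
theorem exists_unit_mul_regular [FiniteDimensional K K'] (hK : FunFld.IsFunctionField k K)
    (x : K) (hx : Transcendental k x) (P : Place k K) (hPx : P.1 x ≤ 1) (z : K')
    (hz : ∀ Q : Place k K', IsOver Q P → Q.1 z ≤ 1) :
    ∃ u : K, P.1 u = 1 ∧ ∀ Q' : Place k K', Q'.1 (algebraMap K K' x) ≤ 1 →
      Q'.1 (algebraMap K K' u * z) ≤ 1 := by
  classical
  obtain ⟨Pinf, hPinf⟩ := exists_pole hK x hx
  have hK' : G.IsFF1 k K' := isFF1_of_finite hK.1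
  set T := (G.poles_finite hK' z).toFinset with hT
  have hTmem : ∀ Q', Q' ∈ T ↔ 1 < Q'.1 z := fun Q' => by
    rw [hT, Set.Finite.mem_toFinset]; rfl
  choose und e hund using fun Q' : Place k K' => exists_place_under (K' := K') hK.1 Q'
  have hPne : P ≠ Pinf := by
    rintro rfl
    exact absurd hPx (not_le.mpr hPinf)
  set S := (insert P (T.image und)).erase Pinf with hS
  have hPS : P ∈ S := Finset.mem_erase.2 ⟨hPne, Finset.mem_insert_self _ _⟩
  have hinf : Pinf ∉ S := Finset.notMem_erase _ _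
  set N : ℕ := T.sup (fun Q' => (log (Q'.1 z)).toNat) with hN
  have hNz : ∀ Q' ∈ T, Q'.1 z ≤ exp (N : ℤ) := by
    intro Q' hQ'
    have h1 : (log (Q'.1 z)).toNat ≤ N := Finset.le_sup (f := fun Q' => (log (Q'.1 z)).toNat) hQ'
    have hne : Q'.1 z ≠ 0 := by
      intro h0
      have := (hTmem Q').1 hQ'
      rw [h0] at this
      exact not_lt_zero' this
    rw [← exp_log hne, exp_le_exp]
    have := Int.self_le_toNat (log (Q'.1 z))
    omega
  obtain ⟨u, hu1, hu2⟩ := strong_approx hK Pinf S hinf (fun P' => if P' = P then 1 else 0)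
    (fun P' => if P' = P then -1 else -(N : ℤ))
  have huP : P.1 u = 1 := by
    have h1 := hu1 P hPS
    rw [if_pos rfl, if_pos rfl] at h1
    have h2 : P.1 (u - 1) < P.1 (1 : K) := by
      rw [h1, map_one, ← exp_zero, exp_lt_exp]
      omega
    have h3 := Valuation.map_add_eq_of_lt_left P.1 h2
    rwa [add_sub_cancel, map_one] at h3
  have huS : ∀ P' ∈ S, P' ≠ P → P'.1 u = exp (-(N : ℤ)) := by
    intro P' hP' hne
    have h1 := hu1 P' hP'
    rw [if_neg hne, if_neg hne, sub_zero] at h1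
    exact h1
  refine ⟨u, huP, fun Q' hQ'x => ?_⟩
  have he := hund Q'
  have hepos : 0 < e Q' := isOverWith_pos he
  have hux : (und Q').1 x ≤ 1 := by
    have h1 := he x
    rw [h1] at hQ'x
    exact (pow_le_one_iff_of_nonneg zero_le' hepos.ne').mp hQ'x
  have hne_inf : und Q' ≠ Pinf := by
    intro h
    rw [h] at hux
    exact absurd hux (not_le.mpr hPinf)
  have hQu : Q'.1 (algebraMap K K' u) = (und Q').1 u ^ e Q' := he u
  rw [map_mul, hQu]
  by_cases hQT : Q' ∈ T
  · have hmemS : und Q' ∈ S :=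
      Finset.mem_erase.2 ⟨hne_inf, Finset.mem_insert_of_mem (Finset.mem_image_of_mem _ hQT)⟩
    have hneP : und Q' ≠ P := by
      intro h
      have h1 := hz Q' ⟨e Q', h ▸ he⟩
      exact absurd h1 (not_le.mpr ((hTmem Q').1 hQT))
    rw [huS _ hmemS hneP]
    have h1 : (exp (-(N : ℤ)) : WithZero (Multiplicative ℤ)) ^ e Q' ≤ exp (-(N : ℤ)) := by
      rw [← exp_nsmul, exp_le_exp, nsmul_eq_mul]
      have : (1 : ℤ) ≤ (e Q' : ℤ) := by exact_mod_cast hepos
      nlinarith
    calc (exp (-(N : ℤ)) : WithZero (Multiplicative ℤ)) ^ e Q' * Q'.1 z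
        ≤ exp (-(N : ℤ)) * exp (N : ℤ) := mul_le_mul' h1 (hNz Q' hQT)
      _ = 1 := by rw [← exp_add, neg_add_cancel, exp_zero]
  · have hz1 : Q'.1 z ≤ 1 := by
      by_contra hcon
      rw [not_le] at hcon
      exact hQT ((hTmem Q').2 hcon)
    have hu1' : (und Q').1 u ≤ 1 := by
      by_cases hmemS : und Q' ∈ S
      · by_cases hP : und Q' = P
        · rw [hP, huP]
        · rw [huS _ hmemS hP, ← exp_zero, exp_le_exp]
          omega
      · exact hu2 _ hne_inf hmemS
    calc (und Q').1 u ^ e Q' * Q'.1 z ≤ 1 * 1 := mul_le_mul' (pow_le_one₀ zero_le' hu1') hz1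
      _ = 1 := one_mul _

end Groth.Agent.H27.NS
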