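import Mathlib
import Groth.Agent.H27.NS.Unit
import Groth.Agent.H55.FFConstExt
import Groth.Agent.H55.IntOver2

/-!
# A uniform conductor for constant field extensions, and nonsingularity away from its zeros
-/

set_option autoImplicit false

namespace Groth.Agent.H27.NS

open FunFld WithZero IntermediateField Polynomial Groth.Agent.H55
open scoped IntermediateField.algebraAdjoinAdjoin

variable {k k' K K' : Type*} [Field k] [Field k'] [Field K] [Field K'] [Algebra k k']
  [Algebra k K] [Algebra K K'] [Algebra k' K'] [Algebra k K'] [IsScalarTower k k' K']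
  [IsScalarTower k K K']

theorem val_le_one_of_mem_adjoin (x : K) (P : Place k K) (hPx : P.1 x ≤ 1) {a : K}
    (ha : a ∈ Algebra.adjoin k ({x} : Set K)) : P.1 a ≤ 1 := by
  induction ha using Algebra.adjoin_induction with
  | mem z hz => rw [Set.mem_singleton_iff] at hz; rw [hz]; exact hPx
  | algebraMap c => exact P.2.1 c
  | add a b _ _ iha ihb => exact le_trans (P.1.map_add _ _) (max_le iha ihb)
  | mul a b _ _ iha ihb => rw [map_mul]; exact mul_le_one' iha ihb

/-- `k'[x] ⊆ O_P[k']` when `x ∈ O_P`. -/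
theorem adjoin_alg_mem_adjoin_SO (x : K) (P : Place k K) (hPx : P.1 x ≤ 1) {a : K'}
    (ha : a ∈ Algebra.adjoin k' ({algebraMap K K' x} : Set K')) :
    a ∈ Algebra.adjoin (SO P K') (Set.range (algebraMap k' K')) := by
  induction ha using Algebra.adjoin_induction with
  | mem z hz =>
    rw [Set.mem_singleton_iff] at hz
    rw [hz]
    have h1 : algebraMap K K' x ∈ SO P K' := (mem_SO_iff P _).2 ⟨x, hPx, rfl⟩
    exact Subalgebra.algebraMap_mem _ (⟨_, h1⟩ : SO P K')
  | algebraMap c => exact Algebra.subset_adjoin ⟨c, rfl⟩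
  | add a b _ _ iha ihb => exact add_mem iha ihb
  | mul a b _ _ iha ihb => exact mul_mem iha ihb

/-- **Uniform conductor.** With `x` separating, `K = k(x)(y)`, `y` integral over `k[x]` with minimal
polynomial `G₀`, the element `G₀'(y) ∈ K` multiplies the integral closure of `O_P` in `K' = k'K`
into `O_P[k']`, for every place `P` at which `x` is regular and every finite `k'/k`. -/
theorem conductor_mul_mem [FiniteDimensional k k']
    (h : Function.Bijective (Algebra.TensorProduct.productMap
      (IsScalarTower.toAlgHom k k' K') (IsScalarTower.toAlgHom k K K')))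
    (hK : FunFld.IsFunctionField k K)
    (x : K) (hx : Transcendental k x) [FiniteDimensional k⟮x⟯ K] [Algebra.IsSeparable k⟮x⟯ K]
    (y : K) (hy : Algebra.adjoin k⟮x⟯ ({y} : Set K) = ⊤)
    (hyi : IsIntegral (Algebra.adjoin k ({x} : Set K)) y)
    (P : Place k K) (hPx : P.1 x ≤ 1) (z : K')
    (hz : ∀ Q : Place k K', IsOver Q P → Q.1 z ≤ 1) :
    algebraMap K K' (aeval y (derivative (minpoly (Algebra.adjoin k ({x} : Set K)) y))) * z ∈
      Algebra.adjoin (SO P K') (Set.range (algebraMap k' K')) := by
  classical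
  haveI : Algebra.IsAlgebraic k k' := Algebra.IsAlgebraic.of_finite k k'
  haveI : FiniteDimensional K K' := finiteDimensional_of_productMap h.2
  haveI : IsIntegrallyClosed ↥(Algebra.adjoin k ({x} : Set K)) :=
    IsIntegrallyClosed.of_equiv (Polynomial.algEquivOfTranscendental k x hx).toRingEquiv
  have hx' : Transcendental k' (algebraMap K K' x) := transcendental_map x hx
  have htop' : Algebra.adjoin k'⟮algebraMap K K' x⟯ ({algebraMap K K' y} : Set K') = ⊤ :=
    adjoin_map_eq_top h.2 x y hy
  let φ : ↥(Algebra.adjoin k ({x} : Set K)) →+*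
      ↥(Algebra.adjoin k' ({algebraMap K K' x} : Set K')) :=
    ((algebraMap K K').comp (algebraMap ↥(Algebra.adjoin k ({x} : Set K)) K)).codRestrict
      (Algebra.adjoin k' ({algebraMap K K' x} : Set K')) (fun a => map_mem_adjoin_alg x a.2)
  have hφ : (algebraMap ↥(Algebra.adjoin k' ({algebraMap K K' x} : Set K')) K').comp φ =
      (algebraMap K K').comp (algebraMap ↥(Algebra.adjoin k ({x} : Set K)) K) := rfl
  have haev : ∀ p : (↥(Algebra.adjoin k ({x} : Set K)))[X],
      aeval (algebraMap K K' y) (p.map φ) = algebraMap K K' (aeval y p) := by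
    intro p
    rw [aeval_def, eval₂_map, hφ, aeval_def, hom_eval₂]
  have hG'm : ((minpoly (↥(Algebra.adjoin k ({x} : Set K))) y).map φ).Monic :=
    (minpoly.monic hyi).map φ
  have hG'y : aeval (algebraMap K K' y) ((minpoly (↥(Algebra.adjoin k ({x} : Set K))) y).map φ)
      = 0 := by rw [haev, minpoly.aeval, map_zero]
  have hy'A : IsIntegral ↥(Algebra.adjoin k' ({algebraMap K K' x} : Set K')) (algebraMap K K' y) :=
    ⟨_, hG'm, hG'y⟩
  have hy'int : IsIntegral k'⟮algebraMap K K' x⟯ (algebraMap K K' y) := hy'A.tower_top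
  have hy'sep : IsSeparable k'⟮algebraMap K K' x⟯ (algebraMap K K' y) := by
    have hdvd : minpoly k'⟮algebraMap K K' x⟯ (algebraMap K K' y) ∣
        ((minpoly (↥(Algebra.adjoin k ({x} : Set K))) y).map φ).map
          (algebraMap ↥(Algebra.adjoin k' ({algebraMap K K' x} : Set K'))
            k'⟮algebraMap K K' x⟯) :=
      minpoly.dvd _ _ (by rw [aeval_map_algebraMap]; exact hG'y)
    have hsepG : (((minpoly (↥(Algebra.adjoin k ({x} : Set K))) y).map φ).map
          (algebraMap ↥(Algebra.adjoin k' ({algebraMap K K' x} : Set K'))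
            k'⟮algebraMap K K' x⟯)).Separable := by
      rw [← Polynomial.separable_map (algebraMap k'⟮algebraMap K K' x⟯ K')]
      have e1 : (((minpoly (↥(Algebra.adjoin k ({x} : Set K))) y).map φ).map
          (algebraMap ↥(Algebra.adjoin k' ({algebraMap K K' x} : Set K'))
            k'⟮algebraMap K K' x⟯)).map (algebraMap k'⟮algebraMap K K' x⟯ K') =
          (((minpoly (↥(Algebra.adjoin k ({x} : Set K))) y).map
            (algebraMap ↥(Algebra.adjoin k ({x} : Set K)) k⟮x⟯)).map (algebraMap k⟮x⟯ K)).map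
              (algebraMap K K') := by
        rw [Polynomial.map_map, Polynomial.map_map, Polynomial.map_map, Polynomial.map_map]
        rfl
      rw [e1]
      apply Polynomial.Separable.map
      apply Polynomial.Separable.map
      rw [← minpoly.isIntegrallyClosed_eq_field_fractions' k⟮x⟯ hyi]
      exact Algebra.IsSeparable.isSeparable k⟮x⟯ y
    exact hsepG.of_dvd hdvd
  haveI : FiniteDimensional k'⟮algebraMap K K' x⟯ K' :=
    finiteDimensional_of_adjoin_eq_top _ hy'int htop'
  haveI : Algebra.IsSeparable k'⟮algebraMap K K' x⟯ K' :=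
    isSeparable_of_adjoin_eq_top _ hy'sep htop'
  have hFF' : G.IsFF1 k' K' := ⟨algebraMap K K' x, hx', inferInstance⟩
  obtain ⟨u, huP, hu⟩ := exists_unit_mul_regular hK x hx P hPx z hz
  have hw : IsIntegral ↥(Algebra.adjoin k' ({algebraMap K K' x} : Set K'))
      (algebraMap K K' u * z) :=
    isIntegral_of_regular' hFF' _ _ (fun Q'' hQ'' => hu (ConstExt.toK k Q'') hQ'')
  have hE := deriv_mul_mem_adjoin (algebraMap K K' x) (algebraMap K K' y) hx' htop' _ hG'm hG'y
    _ hw
  rw [derivative_map, haev] at hE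
  -- `k'[x][y] ⊆ O_P[k']`
  have hPy : P.1 y ≤ 1 :=
    val_le_one_of_isIntegral P (fun a => val_le_one_of_mem_adjoin x P hPx a.2) hyi
  have hsub : ∀ b ∈ Algebra.adjoin ↥(Algebra.adjoin k' ({algebraMap K K' x} : Set K'))
      ({algebraMap K K' y} : Set K'),
      b ∈ Algebra.adjoin (SO P K') (Set.range (algebraMap k' K')) := by
    intro b hb
    induction hb using Algebra.adjoin_induction with
    | mem w hw =>
      rw [Set.mem_singleton_iff] at hw
      rw [hw]
      have h1 : algebraMap K K' y ∈ SO P K' := (mem_SO_iff P _).2 ⟨y, hPy, rfl⟩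
      exact Subalgebra.algebraMap_mem _ (⟨_, h1⟩ : SO P K')
    | algebraMap r => exact adjoin_alg_mem_adjoin_SO x P hPx r.2
    | add a b _ _ iha ihb => exact add_mem iha ihb
    | mul a b _ _ iha ihb => exact mul_mem iha ihb
  have h1 := hsub _ hE
  have hu0 : u ≠ 0 := by
    intro h0; rw [h0, map_zero] at huP; exact zero_ne_one huP
  have huinv : algebraMap K K' u⁻¹ ∈ SO P K' :=
    (mem_SO_iff P _).2 ⟨u⁻¹, by rw [map_inv₀, huP, inv_one], rfl⟩
  have h2 := mul_mem (Subalgebra.algebraMap_mem
    (Algebra.adjoin (SO P K') (Set.range (algebraMap k' K'))) (⟨_, huinv⟩ : SO P K')) h1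
  have e2 : algebraMap (SO P K') K' (⟨_, huinv⟩ : SO P K') *
      (algebraMap K K' (aeval y (derivative (minpoly (↥(Algebra.adjoin k ({x} : Set K))) y))) *
        (algebraMap K K' u * z)) =
      algebraMap K K' (aeval y (derivative (minpoly (↥(Algebra.adjoin k ({x} : Set K))) y))) * z := by
    show algebraMap K K' u⁻¹ * _ = _
    rw [map_inv₀]
    have : algebraMap K K' u ≠ 0 := (_root_.map_ne_zero _).mpr hu0
    field_simp
  rw [e2] at h2
  exact h2

/-- Away from the zeros of the conductor, places are nonsingular. -/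
theorem nonsingular_of_conductor_unit [FiniteDimensional k k']
    (h : Function.Bijective (Algebra.TensorProduct.productMap
      (IsScalarTower.toAlgHom k k' K') (IsScalarTower.toAlgHom k K K')))
    (hK : FunFld.IsFunctionField k K)
    (x : K) (hx : Transcendental k x) [FiniteDimensional k⟮x⟯ K] [Algebra.IsSeparable k⟮x⟯ K]
    (y : K) (hy : Algebra.adjoin k⟮x⟯ ({y} : Set K) = ⊤)
    (hyi : IsIntegral (Algebra.adjoin k ({x} : Set K)) y)
    (P : Place k K) (hPx : P.1 x ≤ 1)
    (hPc : P.1 (aeval y (derivative (minpoly (Algebra.adjoin k ({x} : Set K)) y))) = 1) :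
    integralClosure (SO P K') K' = Algebra.adjoin (SO P K') (Set.range (algebraMap k' K')) := by
  haveI : Algebra.IsAlgebraic k k' := Algebra.IsAlgebraic.of_finite k k'
  haveI : FiniteDimensional K K' := finiteDimensional_of_productMap h.2
  rw [ns_iff (F := k') hK.1 P]
  intro z hz
  have h1 := conductor_mul_mem h hK x hx y hy hyi P hPx z hz
  set c := aeval y (derivative (minpoly (Algebra.adjoin k ({x} : Set K)) y)) with hc
  have hc0 : c ≠ 0 := by
    intro h0; rw [h0, map_zero] at hPc; exact zero_ne_one hPc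
  have hcinv : algebraMap K K' c⁻¹ ∈ SO P K' :=
    (mem_SO_iff P _).2 ⟨c⁻¹, by rw [map_inv₀, hPc, inv_one], rfl⟩
  have h2 := mul_mem (Subalgebra.algebraMap_mem
    (Algebra.adjoin (SO P K') (Set.range (algebraMap k' K'))) (⟨_, hcinv⟩ : SO P K')) h1
  have e2 : algebraMap (SO P K') K' (⟨_, hcinv⟩ : SO P K') * (algebraMap K K' c * z) = z := by
    show algebraMap K K' c⁻¹ * _ = _
    rw [map_inv₀]
    have : algebraMap K K' c ≠ 0 := (_root_.map_ne_zero _).mpr hc0
    field_simp
  rw [e2] at h2
  exact h2

end Groth.Agent.H27.NS
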