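import Mathlib
import Groth.Agent.H27.NS.Core
import Groth.Agent.H55.FFGeom

/-!
# Finiteness of the set of singular places
-/

set_option autoImplicit false

namespace Groth.Agent.H27.NS

open FunFld WithZero IntermediateField Polynomial Groth.Agent.H55 TensorProduct
open scoped IntermediateField.algebraAdjoinAdjoin

universe u v

variable {k : Type u} {K : Type v} [Field k] [Field K] [Algebra k K]

/-- A primitive element of `K/k(x)` that is integral over `k[x]`. -/
theorem exists_integral_generator (x : K) [FiniteDimensional k⟮x⟯ K]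
    [Algebra.IsSeparable k⟮x⟯ K] :
    ∃ y : K, Algebra.adjoin k⟮x⟯ ({y} : Set K) = ⊤ ∧
      IsIntegral (Algebra.adjoin k ({x} : Set K)) y := by
  obtain ⟨α, hα⟩ := Field.exists_primitive_element k⟮x⟯ K
  have halg : IsAlgebraic (Algebra.adjoin k ({x} : Set K)) α :=
    (IsFractionRing.isAlgebraic_iff (Algebra.adjoin k ({x} : Set K)) k⟮x⟯ K).mpr
      (Algebra.IsAlgebraic.isAlgebraic α)
  obtain ⟨d, hd0, hdi⟩ := halg.exists_integral_multiple
  refine ⟨d • α, ?_, hdi⟩
  have hdK : (d : K) ≠ 0 := fun h => hd0 (Subtype.ext h)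
  have hdmem : (d : K) ∈ k⟮x⟯⟮d • α⟯ := by
    have h1 : (d : K) = algebraMap k⟮x⟯ K ⟨(d : K), algebra_adjoin_le_adjoin k _ d.2⟩ := rfl
    rw [h1]
    exact IntermediateField.algebraMap_mem _ _
  have hαmem : α ∈ k⟮x⟯⟮d • α⟯ := by
    have h2 : (d : K)⁻¹ * (d • α) ∈ k⟮x⟯⟮d • α⟯ :=
      mul_mem (inv_mem hdmem) (IntermediateField.mem_adjoin_simple_self _ _)
    have h1 : (d : K)⁻¹ * (d • α) = α := by
      rw [Algebra.smul_def]
      show (d : K)⁻¹ * ((d : K) * α) = α
      rw [← mul_assoc, inv_mul_cancel₀ hdK, one_mul]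
    rwa [h1] at h2
  have htop : k⟮x⟯⟮d • α⟯ = ⊤ := by
    rw [eq_top_iff, ← hα]
    exact IntermediateField.adjoin_simple_le_iff.mpr hαmem
  have := IntermediateField.adjoin_simple_toSubalgebra_of_isAlgebraic
    (Algebra.IsAlgebraic.isAlgebraic (R := k⟮x⟯) (d • α))
  rw [← this, htop, IntermediateField.top_toSubalgebra]

theorem conductor_ne_zero (x : K) (hx : Transcendental k x) [FiniteDimensional k⟮x⟯ K]
    [Algebra.IsSeparable k⟮x⟯ K] (y : K)
    (hyi : IsIntegral (Algebra.adjoin k ({x} : Set K)) y) :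
    aeval y (derivative (minpoly (Algebra.adjoin k ({x} : Set K)) y)) ≠ 0 := by
  haveI : IsIntegrallyClosed ↥(Algebra.adjoin k ({x} : Set K)) :=
    IsIntegrallyClosed.of_equiv (Polynomial.algEquivOfTranscendental k x hx).toRingEquiv
  have hmK := minpoly.isIntegrallyClosed_eq_field_fractions' k⟮x⟯ hyi
  have hc0 : aeval y (derivative (minpoly k⟮x⟯ y)) ≠ 0 :=
    (Algebra.IsSeparable.isSeparable k⟮x⟯ y).aeval_derivative_ne_zero (minpoly.aeval k⟮x⟯ y)
  rwa [hmK, derivative_map, aeval_map_algebraMap] at hc0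

/-- The set of singular places of a geometric function field is finite. -/
theorem finite_singular (hK : FunFld.IsFunctionField k K) (hg : FunFld.IsGeometric k K) :
    {P : FunFld.Place k K | ∃ (k' : Type u) (_ : Field k') (_ : Algebra k k'),
      FiniteDimensional k k' ∧
      integralClosure (P.O.toSubring.map
        (Algebra.TensorProduct.includeRight : K →ₐ[k] k' ⊗[k] K).toRingHom) (k' ⊗[k] K) ≠
        Algebra.adjoin (P.O.toSubring.map
          (Algebra.TensorProduct.includeRight : K →ₐ[k] k' ⊗[k] K).toRingHom)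
          (Set.range (Algebra.TensorProduct.includeLeftRingHom : k' →+* k' ⊗[k] K))}.Finite := by
  classical
  obtain ⟨x, hx, hsep⟩ := exists_separating hK hg
  haveI := hsep
  haveI : FiniteDimensional k⟮x⟯ K := G.ff_finite hK.1 hx
  obtain ⟨y, hy, hyi⟩ := exists_integral_generator (k := k) x
  have hc0 := conductor_ne_zero x hx y hyi
  refine ((G.poles_finite hK.1 x).union ((G.zeros_finite hK.1 _ hc0).union
    (G.poles_finite hK.1 (aeval y (derivative (minpoly (Algebra.adjoin k ({x} : Set K)) y)))))).subset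
    ?_
  rintro P ⟨k', fk', ak', hfin, hne⟩
  by_contra hP
  simp only [Set.mem_union, Set.mem_setOf_eq, not_or, not_lt] at hP
  obtain ⟨hPx, hPc1, hPc2⟩ := hP
  have hPc : P.1 (aeval y (derivative (minpoly (Algebra.adjoin k ({x} : Set K)) y))) = 1 :=
    le_antisymm hPc2 hPc1
  apply hne
  letI : Field (k' ⊗[k] K) := (hg k' hfin).toField
  letI : Algebra K (k' ⊗[k] K) := Algebra.TensorProduct.rightAlgebra
  haveI : IsScalarTower k K (k' ⊗[k] K) := Algebra.TensorProduct.right_isScalarTower
  have hbij : Function.Bijective (Algebra.TensorProduct.productMap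
      (IsScalarTower.toAlgHom k k' (k' ⊗[k] K)) (IsScalarTower.toAlgHom k K (k' ⊗[k] K))) := by
    have hid : Algebra.TensorProduct.productMap
        (IsScalarTower.toAlgHom k k' (k' ⊗[k] K)) (IsScalarTower.toAlgHom k K (k' ⊗[k] K)) =
        AlgHom.id k (k' ⊗[k] K) := by
      apply Algebra.TensorProduct.ext'
      intro a b
      rw [Algebra.TensorProduct.productMap_apply_tmul]
      show (a ⊗ₜ[k] (1 : K)) * ((1 : k') ⊗ₜ[k] b) = a ⊗ₜ[k] b
      rw [Algebra.TensorProduct.tmul_mul_tmul, mul_one, one_mul]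
    rw [hid]
    exact Function.bijective_id
  exact nonsingular_of_conductor_unit hbij hK x hx y hy hyi P hPx hPc

end Groth.Agent.H27.NS
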